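-- Team project OHYP (S5992), package [BLK]: the case `i` even (helper59).
import Mathlib
import Cfsg.Agent.Lib.Helper59.OHyp.BlkBasic

set_option autoImplicit false

namespace Cfsg.Agent.Lib.Helper59.OHyp

open Cfsg.Agent.Lib.Helper23.OHyp

universe u

/-- [EVEN] -/
theorem pkgEvenCase_of (hI : PkgIrrDim.{u}) (hM : PkgMaschke.{u}) (hF : PkgFrob.{u})
    (hC : PkgCyc.{u}) (hA : PkgAnn.{u}) : PkgEvenCase.{u} := by
  intro F _ _ ι _ _ Q r x hS W hW hNd hW0 hNF hev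
  have hb := hS.nondeg.polar_bilinear
  have hr0 : 0 < r := hS.prime.pos
  -- step 1
  obtain ⟨U, hUW, hUmin⟩ := exists_minInv x _ W le_rfl hW hW0
  have hUdim := hI F ι r x hS.prime hS.ndvd hS.pow U hUmin (hNF.mono hUW)
  -- step 2
  obtain ⟨g, hg0, hgdeg, hgU⟩ := hA F ι x U hUmin.1
  obtain ⟨G, hG⟩ : ∃ G : Matrix ι ι F, G = Polynomial.aeval x g := ⟨_, rfl⟩
  rw [← hG] at hgU
  have hc : Commute x G := by
    rw [hG]
    simpa using (Polynomial.commute_X g).map (Polynomial.aeval x)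
  -- step 3
  have hmemK : ∀ w : ι → F, w ∈ LinearMap.ker (Matrix.toLin' G) ↔ G.mulVec w = 0 := by
    intro w
    rw [LinearMap.mem_ker, Matrix.toLin'_apply]
  obtain ⟨Wg, hWg⟩ : ∃ Wg : Submodule F (ι → F), Wg = W ⊓ LinearMap.ker (Matrix.toLin' G) :=
    ⟨_, rfl⟩
  have hmemWg : ∀ w : ι → F, w ∈ Wg ↔ w ∈ W ∧ G.mulVec w = 0 := by
    intro w
    rw [hWg, Submodule.mem_inf, hmemK]
  have hWgW : Wg ≤ W := by rw [hWg]; exact inf_le_left
  have hWgInv : Helper23.OHyp.Inv x Wg := by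
    rw [inv_iff]
    intro w hw
    rw [hmemWg] at hw ⊢
    refine ⟨(inv_iff x W).1 hW w hw.1, ?_⟩
    rw [Matrix.mulVec_mulVec, ← hc.eq, ← Matrix.mulVec_mulVec, hw.2, Matrix.mulVec_zero]
  have hUWg : U ≤ Wg := fun v hv => (hmemWg v).2 ⟨hUW hv, hgU v hv⟩
  -- step 4
  obtain ⟨C, hCW, hCinv, hdisj, hsup⟩ := hM F ι r x hS.ne hS.pow W Wg hWgW hW hWgInv
  -- step 5
  have hGC : ∀ c ∈ C, G.mulVec c ∈ C := by
    rw [hG]
    exact inv_aeval hCinv g
  have hsurj : ∀ c ∈ C, ∃ c' ∈ C, G.mulVec c' = c := by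
    have hmaps : ∀ c ∈ C, Matrix.toLin' G c ∈ C := by
      intro c hc'
      rw [Matrix.toLin'_apply]
      exact hGC c hc'
    obtain ⟨φ, hφ⟩ : ∃ φ : C →ₗ[F] C, φ = (Matrix.toLin' G).restrict hmaps := ⟨_, rfl⟩
    have hφv : ∀ c : C, ((φ c : C) : ι → F) = G.mulVec (c : ι → F) := by
      intro c
      rw [hφ, LinearMap.coe_restrict_apply, Matrix.toLin'_apply]
    have hinj : Function.Injective φ := by
      rw [← LinearMap.ker_eq_bot, LinearMap.ker_eq_bot']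
      intro c hc'
      have h1 : G.mulVec (c : ι → F) = 0 := by
        rw [← hφv, hc']
        rfl
      have h2 : (c : ι → F) ∈ Wg ⊓ C := ⟨(hmemWg _).2 ⟨hCW c.2, h1⟩, c.2⟩
      rw [hdisj] at h2
      exact Subtype.ext ((Submodule.mem_bot F).1 h2)
    have hs : Function.Surjective φ := LinearMap.surjective_of_injective hinj
    intro c hc'
    obtain ⟨c', hc''⟩ := hs ⟨c, hc'⟩
    refine ⟨c', c'.2, ?_⟩
    rw [← hφv, hc'']
  -- step 6
  have hperp : ∀ w ∈ Wg, ∀ c ∈ C, QuadraticMap.polar Q c w = 0 := by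
    intro w hw c hc'
    obtain ⟨c', _, rfl⟩ := hsurj c hc'
    have h1 := hF F ι Q r x hS hev g c' w
    rw [← hG] at h1
    rw [h1]
    have hN : 0 < Fintype.card F ^ (ordI (Fintype.card F) r / 2) := pow_pos Fintype.card_pos _
    obtain ⟨N, hNeq⟩ : ∃ N, Fintype.card F ^ (ordI (Fintype.card F) r / 2) = N + 1 :=
      ⟨_, (Nat.succ_pred_eq_of_pos hN).symm⟩
    rw [hNeq, pow_succ, ← Matrix.mulVec_mulVec, ((hmemWg w).1 hw).2, Matrix.mulVec_zero]
    exact polar_zero_right hb c'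
  -- step 7
  have hNdWg : ∀ w ∈ Wg, w ≠ 0 → ∃ a ∈ Wg, QuadraticMap.polar Q a w ≠ 0 := by
    intro w hw hw0
    obtain ⟨⟨v, hv, hne⟩, _⟩ := hNd w (hWgW hw) hw0
    rw [← hsup] at hv
    obtain ⟨a, ha, c, hc', rfl⟩ := Submodule.mem_sup.1 hv
    refine ⟨a, ha, ?_⟩
    rw [hb.add_left, hperp w hw c hc', add_zero] at hne
    exact hne
  -- step 8
  have hex : ∃ w ∈ Wg, QuadraticMap.polar Q w w ≠ 0 := by
    by_contra hcon
    have hzero : ∀ w ∈ Wg, QuadraticMap.polar Q w w = 0 :=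
      fun w hw => by_contra fun h => hcon ⟨w, hw, h⟩
    have hall : ∀ a ∈ Wg, ∀ b ∈ Wg, QuadraticMap.polar Q a b = 0 := by
      intro a ha b hb'
      have h1 := hzero (a + b) (Wg.add_mem ha hb')
      rw [hb.add_left, hb.add_right, hb.add_right, hzero a ha, hzero b hb',
        QuadraticMap.polar_comm Q b a] at h1
      have h2 : (2 : F) * QuadraticMap.polar Q a b = 0 := by linear_combination h1
      exact (mul_eq_zero.1 h2).resolve_left hS.two
    obtain ⟨u, hu, hu0⟩ := (Submodule.ne_bot_iff U).1 hUmin.2.1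
    obtain ⟨a, ha, hne⟩ := hNdWg u (hUWg hu) hu0
    exact hne (hall a ha u (hUWg hu))
  obtain ⟨w, hw, hww⟩ := hex
  -- step 9
  obtain ⟨hDinv, hwD, hDmin, hDdeg⟩ := hC F ι x w
  have hDWg : cycSp x w ≤ Wg := hDmin Wg hWgInv hw
  have hDW : cycSp x w ≤ W := hDWg.trans hWgW
  have hgw : (Polynomial.aeval x g).mulVec w = 0 := by
    rw [← hG]
    exact ((hmemWg w).1 hw).2
  have hDle : Module.finrank F (cycSp x w) ≤ ordI (Fintype.card F) r :=
    (hDdeg g hg0 hgw).trans (hgdeg.trans hUdim.le)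
  have hw0 : w ≠ 0 := by
    rintro rfl
    exact hww (polar_zero_right hb 0)
  have hD0 : cycSp x w ≠ ⊥ := by
    intro h
    rw [h] at hwD
    exact hw0 ((Submodule.mem_bot F).1 hwD)
  -- step 10
  obtain ⟨U₂, hU₂D, hU₂min⟩ := exists_minInv x _ (cycSp x w) le_rfl hDinv hD0
  have hU₂dim := hI F ι r x hS.prime hS.ndvd hS.pow U₂ hU₂min (hNF.mono (hU₂D.trans hDW))
  have hU₂eq : U₂ = cycSp x w :=
    Submodule.eq_of_le_of_finrank_le hU₂D (by rw [hU₂dim]; exact hDle)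
  rw [hU₂eq] at hU₂min hU₂dim
  -- step 11
  refine ⟨cycSp x w, hDW, hU₂min, ?_, hU₂dim⟩
  apply nd_of_inf_perp hb
  rcases hU₂min.inf_eq (inv_perpSp hb hr0 hS.pow hS.isom hDinv) with h | h
  · exact h
  · exact absurd (h hwD w hwD) hww

end Cfsg.Agent.Lib.Helper59.OHyp
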